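import Cfsg.Agent.OM.Lo.Defs
import Cfsg.Agent.BZ.Cov
import Cfsg.Agent.S2060
import Cfsg.Agent.S2061
import Cfsg.Agent.S2062
import Cfsg.Agent.S2063
import Cfsg.Agent.S2064
import Cfsg.Agent.S2065
import Cfsg.Agent.S2066
import Cfsg.Agent.S2067
import Cfsg.Agent.S2068
import Cfsg.Agent.S2069
import Cfsg.Agent.S2070
import Cfsg.Agent.S2071
import Cfsg.Agent.S2072
import Cfsg.Agent.S2073
import Cfsg.Agent.S2074
import Cfsg.Agent.S2075
import Cfsg.Agent.S2076
import Cfsg.Agent.S2077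
import Cfsg.Agent.S2078
import Cfsg.Agent.S2079
import Cfsg.Agent.S2080
import Cfsg.Agent.S2081
import Cfsg.Agent.S2082
import Cfsg.Agent.S2083
import Cfsg.Agent.S2084
import Cfsg.Agent.S2085

/-!
# OM (S4894): rows by the order of the centre, the list of the sporadic rows (helper50)

* `Cov n p S` : the row for the covers with centre of order `n` and defect groups which are not small; `row_of_cov`;
* `Sp` : the list of the sporadic rows; `Sp.spor`, `Sp.tits`.
-/

set_option autoImplicit false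
set_option linter.unusedSectionVars false

namespace Cfsg.Agent.OM

open Cfsg Cfsg.Agent.KM Cfsg.Agent.BZ Cfsg.Agent.OM.Lo Subgroup

/-- the small orders -/
def Sml (n : ℕ) : Prop := n ∣ 16 ∨ n = 9 ∨ n = 25

/-- the least order which is not small -/
def Thr (p : ℕ) : ℕ := if p = 2 then 32 else if p = 3 then 27 else if p = 5 then 125 else p ^ 2

/-- the row for the covers with centre of order `n` -/
def Cov (n p : ℕ) (S : Type) [Group S] : Prop :=
  ∀ (X : Type) [Group X] [Finite X] (σ : X →* S) (M : Ideal AlgInt) (Γ : Subgroup (MulAut X))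
    (b : Set (IrrCharacter X)) (D : Subgroup X), Hyp p M Γ b D σ → Nat.card (center X) = n → Thr p ∣ Nat.card D →
    ∃ θ, Lift p Γ b θ

/-- the general boxes for small defect groups -/
structure Gen : Prop where
  idx : BoxIdx
  hz : BoxHz
  n2 : Lo.BoxN2
  n3 : BoxN3
  n5 : BoxN5

variable {p : ℕ}

theorem Cov.of_equiv {n : ℕ} {S T : Type} [Group S] [Group T] (e : S ≃* T) (h : Cov n p T) : Cov n p S :=
  fun X _ _ _ M Γ b D H => h X _ M Γ b D (H.congr e)

theorem RowO.cov {S : Type} [Group S] (h : RowO p S) (n : ℕ) : Cov n p S :=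
  fun X _ _ σ M Γ b D H _ _ => h X σ M Γ b D H

section
variable {M : Ideal AlgInt} {X : Type} [Group X] [Finite X] {Γ : Subgroup (MulAut X)} {b : Set (IrrCharacter X)}
  {D : Subgroup X} {S : Type} [Group S] {σ : X →* S}

theorem Hyp.card_eq (H : Hyp p M Γ b D σ) : Nat.card X = Nat.card S * Nat.card (center X) := by
  rw [card_eq_card_quotient_mul_card_subgroup σ.ker,
    Nat.card_congr (QuotientGroup.quotientKerEquivOfSurjective σ H.surj).toEquiv, H.ker]

theorem Hyp.pg (H : Hyp p M Γ b D σ) : IsPGroup p D := by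
  obtain ⟨g, -, P, h⟩ := H.hD
  rw [h]
  exact P.2.map _

theorem Hyp.exists_card (H : Hyp p M Γ b D σ) : ∃ k, Nat.card D = p ^ (k + 2) := by
  have : Fact p.Prime := ⟨H.hM.1⟩
  obtain ⟨k, hk⟩ := IsPGroup.iff_card.1 H.pg
  rcases k with _ | _ | k
  · exact (H.nc (have := (Nat.card_eq_one_iff_unique.1 (hk.trans (pow_zero p))).1; inferInstance)).elim
  · exact (H.nc (isCyclic_of_prime_card (p := p) (by simpa using hk))).elim
  · exact ⟨k, hk⟩

theorem Hyp.dvd_card (H : Hyp p M Γ b D σ) : Nat.card D ∣ Nat.card S := by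
  obtain ⟨k, hk⟩ := H.exists_card
  have h := card_subgroup_dvd_card D
  rw [H.card_eq, hk] at h
  exact hk ▸ (Nat.Coprime.pow_left _ ((Nat.Prime.coprime_iff_not_dvd H.hM.1).2 H.sit.ndvd)).dvd_of_dvd_mul_right h

/-- the defect group is small or large -/
theorem Hyp.cases (H : Hyp p M Γ b D σ) : (p = 2 ∧ Nat.card D ∣ 16) ∨ (p = 3 ∧ Nat.card D = 9) ∨
    (p = 5 ∧ Nat.card D = 25) ∨ Thr p ∣ Nat.card D := by
  obtain ⟨k, hk⟩ := H.exists_card
  rw [hk]
  unfold Thr
  split_ifs with h2 h3 h5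
  · subst h2
    by_cases h : k ≤ 2
    · exact .inl ⟨rfl, (pow_dvd_pow 2 (by omega) : 2 ^ (k + 2) ∣ 2 ^ 4)⟩
    · exact .inr (.inr (.inr (pow_dvd_pow 2 (by omega) : 2 ^ 5 ∣ 2 ^ (k + 2))))
  · subst h3
    rcases k with _ | k
    · exact .inr (.inl ⟨rfl, rfl⟩)
    · exact .inr (.inr (.inr (pow_dvd_pow 3 (by omega) : 3 ^ 3 ∣ 3 ^ (k + 1 + 2))))
  · subst h5
    rcases k with _ | k
    · exact .inr (.inr (.inl ⟨rfl, rfl⟩))
    · exact .inr (.inr (.inr (pow_dvd_pow 5 (by omega) : 5 ^ 3 ∣ 5 ^ (k + 1 + 2))))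
  · exact .inr (.inr (.inr (pow_dvd_pow p (by omega))))

/-- the small defect groups -/
theorem Hyp.lift (G : Gen) (H : Hyp p M Γ b D σ) (h2 : (Inn X).relIndex Γ ∣ 2) (hz : p = 5 → Nat.card D = 25 → Hz Γ)
    (h : Thr p ∣ Nat.card D → ∃ θ, Lift p Γ b θ) : ∃ θ, Lift p Γ b θ := by
  rcases H.cases with ⟨rfl, h1⟩ | ⟨rfl, h1⟩ | ⟨rfl, h1⟩ | h1
  · exact G.n2 M X Γ b D S σ H h2 h1
  · exact G.n3 M X Γ b D S σ H (h2.trans (by decide)) h1
  · exact G.n5 M X Γ b D S σ H h2 (hz rfl h1) h1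
  · exact h h1

end

theorem row_of_cov (G : Gen) {S : Type} [Group S] {m : ℕ} (hm : HasCyclicSchurMultiplier S m)
    (ho : Nat.card (Out S) ∣ 2) (hod : ∀ n, n ∣ m → 2 ∣ n → 25 ∣ Nat.card S → Nat.card (Out S) = 1 ∨ Od S)
    (h : ∀ n, n ∣ m → ¬ p ∣ n → Thr p ∣ Nat.card S → Cov n p S) : RowO p S := fun X _ _ σ M Γ b D H => by
  have hn : Nat.card (center X) ∣ m :=
    H.ker ▸ H95.StemCover.card_ker_dvd_cyclic hm H.sit.qs.1.commutator_eq_top σ H.surj H.ker.le
  have hi := G.idx p M X Γ b D S σ H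
  refine H.lift G (hi.trans ho) (fun _ h1 => G.hz p M X Γ b D S σ H ?_) fun h1 =>
    h _ hn H.sit.ndvd (h1.trans H.dvd_card) X σ M Γ b D H rfl h1
  rcases Nat.even_or_odd (Nat.card (center X)) with h2 | h2
  · refine .inr ((hod _ hn h2.two_dvd (h1 ▸ H.dvd_card)).imp_left fun h3 => ?_)
    rw [h3] at hi
    exact Nat.dvd_one.1 hi
  · exact .inl h2

theorem small_prime [hp : Fact p.Prime] {N : ℕ} (h : Thr p ∣ N)
    (hN : N ∣ (2 * 3 * 5 * 7 * 11 * 13 * 17 * 19 * 23 * 29 * 31 * 47) ^ 41) :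
    p = 2 ∨ p = 3 ∨ p = 5 ∨ p = 7 ∨ p = 11 ∨ p = 13 ∨ p = 17 ∨ p = 19 ∨ p = 23 ∨ p = 29 ∨ p = 31 ∨ p = 47 := by
  have h0 : p ∣ Thr p := by
    unfold Thr
    split_ifs with h2 h3 h5
    · subst h2; decide
    · subst h3; decide
    · subst h5; decide
    · exact dvd_pow_self p (by norm_num)
  have h1 := hp.out.dvd_of_dvd_pow ((h0.trans h).trans hN)
  have h2 : ∀ q : ℕ, q.Prime → (p ∣ q ↔ p = q) := fun q hq => Nat.prime_dvd_prime_iff_eq hp.out hq
  simp only [hp.out.dvd_mul, h2 2 (by norm_num), h2 3 (by norm_num), h2 5 (by norm_num), h2 7 (by norm_num),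
    h2 11 (by norm_num), h2 13 (by norm_num), h2 17 (by norm_num), h2 19 (by norm_num), h2 23 (by norm_num),
    h2 29 (by norm_num), h2 31 (by norm_num), h2 47 (by norm_num), or_assoc] at h1
  exact h1

/-- the sporadic rows: the simple groups, and the faithful blocks of the covers (`xx_n_p` : centre of order `n`) -/
structure Sp : Prop where
  one : ∀ (p : ℕ) [Fact p.Prime] (S : Type) [Group S] [Finite S], IsSporadicGroup S ∨ Lie.IsoTits S → Cov 1 p S
  m12_2_3 : ∀ (S : Type) [Group S] [Finite S], Spor.IsoM12 S → Cov 2 3 S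
  m22_3_2 : ∀ (S : Type) [Group S] [Finite S], Spor.IsoM22 S → Cov 3 2 S
  j2_2_3 : ∀ (S : Type) [Group S] [Finite S], Spor.IsoJ2 S → Cov 2 3 S
  j3_3_2 : ∀ (S : Type) [Group S] [Finite S], Spor.IsoJ3 S → Cov 3 2 S
  co1_2_3 : ∀ (S : Type) [Group S] [Finite S], Spor.IsoCo1 S → Cov 2 3 S
  co1_2_5 : ∀ (S : Type) [Group S] [Finite S], Spor.IsoCo1 S → Cov 2 5 S
  co1_2_7 : ∀ (S : Type) [Group S] [Finite S], Spor.IsoCo1 S → Cov 2 7 S
  mcl_3_2 : ∀ (S : Type) [Group S] [Finite S], Spor.IsoMcL S → Cov 3 2 S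
  mcl_3_5 : ∀ (S : Type) [Group S] [Finite S], Spor.IsoMcL S → Cov 3 5 S
  hs_2_5 : ∀ (S : Type) [Group S] [Finite S], Spor.IsoHS S → Cov 2 5 S
  suz_2_3 : ∀ (S : Type) [Group S] [Finite S], Spor.IsoSuz S → Cov 2 3 S
  suz_3_2 : ∀ (S : Type) [Group S] [Finite S], Spor.IsoSuz S → Cov 3 2 S
  ru_2_3 : ∀ (S : Type) [Group S] [Finite S], Spor.IsoRu S → Cov 2 3 S
  ru_2_5 : ∀ (S : Type) [Group S] [Finite S], Spor.IsoRu S → Cov 2 5 S
  on_3_2 : ∀ (S : Type) [Group S] [Finite S], Spor.IsoON S → Cov 3 2 S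
  on_3_7 : ∀ (S : Type) [Group S] [Finite S], Spor.IsoON S → Cov 3 7 S
  fi22_2_3 : ∀ (S : Type) [Group S] [Finite S], Spor.IsoFi22 S → Cov 2 3 S
  fi22_3_2 : ∀ (S : Type) [Group S] [Finite S], Spor.IsoFi22 S → Cov 3 2 S
  fi24_3_2 : ∀ (S : Type) [Group S] [Finite S], Spor.IsoFi24' S → Cov 3 2 S
  fi24_3_7 : ∀ (S : Type) [Group S] [Finite S], Spor.IsoFi24' S → Cov 3 7 S
  b_2_3 : ∀ (S : Type) [Group S] [Finite S], Spor.IsoB S → Cov 2 3 S
  b_2_5 : ∀ (S : Type) [Group S] [Finite S], Spor.IsoB S → Cov 2 5 S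
  b_2_7 : ∀ (S : Type) [Group S] [Finite S], Spor.IsoB S → Cov 2 7 S
  od_j2 : ∀ (S : Type) [Group S] [Finite S], Spor.IsoJ2 S → Od S
  od_hs : ∀ (S : Type) [Group S] [Finite S], Spor.IsoHS S → Od S
  od_suz : ∀ (S : Type) [Group S] [Finite S], Spor.IsoSuz S → Od S
  od_fi22 : ∀ (S : Type) [Group S] [Finite S], Spor.IsoFi22 S → Od S
  out_tits : ∀ (S : Type) [Group S] [Finite S], Lie.IsoTits S → Nat.card (Out S) ∣ 2

theorem row_one [Fact p.Prime] (R : Sp) (G : Gen) {S : Type} [Group S] [Finite S] (hm : HasCyclicSchurMultiplier S 1)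
    (ho : Nat.card (Out S) ∣ 2) (h : IsSporadicGroup S ∨ Lie.IsoTits S) : RowO p S :=
  row_of_cov G hm ho (fun n hn h _ => absurd (h.trans hn) (by decide)) fun n hn _ _ => by
    obtain rfl := Nat.dvd_one.1 hn
    exact R.one p S h

theorem Sp.rm11 [Fact p.Prime] (R : Sp) (G : Gen) {S : Type} [Group S] (h : Spor.IsoM11 S) : RowO p S := by
  obtain ⟨e⟩ := h
  have hi : Spor.IsoM11 Spor.M11 := ⟨MulEquiv.refl _⟩
  have hc := NotCT.Orders.m11 hi
  have hf := BHZ.Spor.finite_of_card hc (by norm_num)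
  refine RowO.of_equiv e ?_
  exact row_one R G S2034.result (by rw [S2060.result]; decide) (Or.inl (Or.inl hi))

theorem Sp.rm12 [Fact p.Prime] (R : Sp) (G : Gen) {S : Type} [Group S] (h : Spor.IsoM12 S) : RowO p S := by
  obtain ⟨e⟩ := h
  have hi : Spor.IsoM12 Spor.M12 := ⟨MulEquiv.refl _⟩
  have hc := NotCT.Orders.m12 hi
  have hf := BHZ.Spor.finite_of_card hc (by norm_num)
  refine RowO.of_equiv e ?_
  refine row_of_cov G S2035.result (by rw [S2061.result]) (fun _ _ _ h => absurd (hc ▸ h) (by decide +kernel))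
    fun n hn h1 h3 => ?_
  rw [hc] at h3
  have hn' := Nat.le_of_dvd (by norm_num) hn
  by_cases h0 : n = 1
  · subst h0
    exact R.one p _ (Or.inl (Or.inr (Or.inl hi)))
  rcases small_prime h3 (by decide +kernel) with rfl | rfl | rfl | rfl | rfl | rfl | rfl | rfl | rfl | rfl | rfl | rfl
  all_goals first
    | exact absurd h3 (by decide +kernel)
    | (interval_cases n <;> first
        | exact absurd hn (by decide)
        | exact absurd rfl h0
        | exact absurd (by decide) h1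
        | exact R.m12_2_3 _ hi)

theorem Sp.rm22 [Fact p.Prime] (R : Sp) (G : Gen) {S : Type} [Group S] (h : Spor.IsoM22 S) : RowO p S := by
  obtain ⟨e⟩ := h
  have hi : Spor.IsoM22 Spor.M22 := ⟨MulEquiv.refl _⟩
  have hc := NotCT.Orders.m22 hi
  have hf := BHZ.Spor.finite_of_card hc (by norm_num)
  refine RowO.of_equiv e ?_
  refine row_of_cov G S2036.result (by rw [S2062.result]) (fun _ _ _ h => absurd (hc ▸ h) (by decide +kernel))
    fun n hn h1 h3 => ?_
  rw [hc] at h3
  have hn' := Nat.le_of_dvd (by norm_num) hn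
  by_cases h0 : n = 1
  · subst h0
    exact R.one p _ (Or.inl (Or.inr (Or.inr (Or.inl hi))))
  rcases small_prime h3 (by decide +kernel) with rfl | rfl | rfl | rfl | rfl | rfl | rfl | rfl | rfl | rfl | rfl | rfl
  all_goals first
    | exact absurd h3 (by decide +kernel)
    | (interval_cases n <;> first
        | exact absurd hn (by decide)
        | exact absurd rfl h0
        | exact absurd (by decide) h1
        | exact R.m22_3_2 _ hi)

theorem Sp.rm23 [Fact p.Prime] (R : Sp) (G : Gen) {S : Type} [Group S] (h : Spor.IsoM23 S) : RowO p S := by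
  obtain ⟨e⟩ := h
  have hi : Spor.IsoM23 Spor.M23 := ⟨MulEquiv.refl _⟩
  have hc := NotCT.Orders.m23 hi
  have hf := BHZ.Spor.finite_of_card hc (by norm_num)
  refine RowO.of_equiv e ?_
  exact row_one R G S2037.result (by rw [S2063.result]; decide) (Or.inl (Or.inr (Or.inr (Or.inr (Or.inl hi)))))

theorem Sp.rm24 [Fact p.Prime] (R : Sp) (G : Gen) {S : Type} [Group S] (h : Spor.IsoM24 S) : RowO p S := by
  obtain ⟨e⟩ := h
  have hi : Spor.IsoM24 M24 := ⟨MulEquiv.refl _⟩
  have hc := NotCT.Orders.m24 hi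
  have hf := BHZ.Spor.finite_of_card hc (by norm_num)
  refine RowO.of_equiv e ?_
  exact row_one R G S2038.result (by rw [S2064.result]; decide) (Or.inl (Or.inr (Or.inr (Or.inr (Or.inr (Or.inl hi))))))

theorem Sp.rj1 [Fact p.Prime] (R : Sp) (G : Gen) {S : Type} [Group S] (h : Spor.IsoJ1 S) : RowO p S := by
  obtain ⟨e⟩ := h
  have hi : Spor.IsoJ1 Spor.J1 := ⟨MulEquiv.refl _⟩
  have hc := NotCT.Orders.j1 hi
  have hf := BHZ.Spor.finite_of_card hc (by norm_num)
  refine RowO.of_equiv e ?_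
  exact row_one R G S2039.result (by rw [S2065.result]; decide) (Or.inl (Or.inr (Or.inr (Or.inr (Or.inr (Or.inr (Or.inl hi)))))))

theorem Sp.rj2 [Fact p.Prime] (R : Sp) (G : Gen) {S : Type} [Group S] (h : Spor.IsoJ2 S) : RowO p S := by
  obtain ⟨e⟩ := h
  have hi : Spor.IsoJ2 Spor.J2 := ⟨MulEquiv.refl _⟩
  have hc := NotCT.Orders.j2 hi
  have hf := BHZ.Spor.finite_of_card hc (by norm_num)
  refine RowO.of_equiv e ?_
  refine row_of_cov G S2040.result (by rw [S2066.result]) (fun _ _ _ _ => .inr (R.od_j2 _ hi))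
    fun n hn h1 h3 => ?_
  rw [hc] at h3
  have hn' := Nat.le_of_dvd (by norm_num) hn
  by_cases h0 : n = 1
  · subst h0
    exact R.one p _ (Or.inl (Or.inr (Or.inr (Or.inr (Or.inr (Or.inr (Or.inr (Or.inl hi))))))))
  rcases small_prime h3 (by decide +kernel) with rfl | rfl | rfl | rfl | rfl | rfl | rfl | rfl | rfl | rfl | rfl | rfl
  all_goals first
    | exact absurd h3 (by decide +kernel)
    | (interval_cases n <;> first
        | exact absurd hn (by decide)
        | exact absurd rfl h0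
        | exact absurd (by decide) h1
        | exact R.j2_2_3 _ hi)

theorem Sp.rj3 [Fact p.Prime] (R : Sp) (G : Gen) {S : Type} [Group S] (h : Spor.IsoJ3 S) : RowO p S := by
  obtain ⟨F, iF, iN, ω, hF, hω, ⟨e⟩⟩ := h
  have hi : Spor.IsoJ3 (Spor.J3 F ω) := ⟨F, iF, iN, ω, hF, hω, ⟨MulEquiv.refl _⟩⟩
  have hc := NotCT.Orders.j3 hi
  have hf := BHZ.Spor.finite_of_card hc (by norm_num)
  refine RowO.of_equiv e ?_
  refine row_of_cov G (S2041.result hF ω hω) (by rw [S2067.result hF ω hω]) (fun n hn h _ => absurd (h.trans hn) (by decide))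
    fun n hn h1 h3 => ?_
  rw [hc] at h3
  have hn' := Nat.le_of_dvd (by norm_num) hn
  by_cases h0 : n = 1
  · subst h0
    exact R.one p _ (Or.inl (Or.inr (Or.inr (Or.inr (Or.inr (Or.inr (Or.inr (Or.inr (Or.inl hi)))))))))
  rcases small_prime h3 (by decide +kernel) with rfl | rfl | rfl | rfl | rfl | rfl | rfl | rfl | rfl | rfl | rfl | rfl
  all_goals first
    | exact absurd h3 (by decide +kernel)
    | (interval_cases n <;> first
        | exact absurd hn (by decide)
        | exact absurd rfl h0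
        | exact absurd (by decide) h1
        | exact R.j3_3_2 _ hi)

theorem Sp.rj4 [Fact p.Prime] (R : Sp) (G : Gen) {S : Type} [Group S] (h : Spor.IsoJ4 S) : RowO p S := by
  obtain ⟨e⟩ := h
  have hi : Spor.IsoJ4 Spor.J4 := ⟨MulEquiv.refl _⟩
  have hc := NotCT.Orders.j4 hi
  have hf := BHZ.Spor.finite_of_card hc (by norm_num)
  refine RowO.of_equiv e ?_
  exact row_one R G S2042.result (by rw [S2068.result]; decide) (Or.inl (Or.inr (Or.inr (Or.inr (Or.inr (Or.inr (Or.inr (Or.inr (Or.inr (Or.inl hi))))))))))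

theorem Sp.rco1 [Fact p.Prime] (R : Sp) (G : Gen) {S : Type} [Group S] (h : Spor.IsoCo1 S) : RowO p S := by
  obtain ⟨e⟩ := h
  have hi : Spor.IsoCo1 Spor.Co1 := ⟨MulEquiv.refl _⟩
  have hc := NotCT.Orders.co1 hi
  have hf := BHZ.Spor.finite_of_card hc (by norm_num)
  refine RowO.of_equiv e ?_
  refine row_of_cov G S2043.result (by rw [S2069.result]; decide) (fun _ _ _ _ => .inl (S2069.result))
    fun n hn h1 h3 => ?_
  rw [hc] at h3
  have hn' := Nat.le_of_dvd (by norm_num) hn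
  by_cases h0 : n = 1
  · subst h0
    exact R.one p _ (Or.inl (Or.inr (Or.inr (Or.inr (Or.inr (Or.inr (Or.inr (Or.inr (Or.inr (Or.inr (Or.inl hi)))))))))))
  rcases small_prime h3 (by decide +kernel) with rfl | rfl | rfl | rfl | rfl | rfl | rfl | rfl | rfl | rfl | rfl | rfl
  all_goals first
    | exact absurd h3 (by decide +kernel)
    | (interval_cases n <;> first
        | exact absurd hn (by decide)
        | exact absurd rfl h0
        | exact absurd (by decide) h1
        | exact R.co1_2_3 _ hi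
        | exact R.co1_2_5 _ hi
        | exact R.co1_2_7 _ hi)

theorem Sp.rco2 [Fact p.Prime] (R : Sp) (G : Gen) {S : Type} [Group S] (h : Spor.IsoCo2 S) : RowO p S := by
  obtain ⟨e⟩ := h
  have hi : Spor.IsoCo2 Spor.Co2 := ⟨MulEquiv.refl _⟩
  have hc := NotCT.Orders.co2 hi
  have hf := BHZ.Spor.finite_of_card hc (by norm_num)
  refine RowO.of_equiv e ?_
  exact row_one R G S2044.result (by rw [S2070.result]; decide) (Or.inl (Or.inr (Or.inr (Or.inr (Or.inr (Or.inr (Or.inr (Or.inr (Or.inr (Or.inr (Or.inr (Or.inl hi))))))))))))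

theorem Sp.rco3 [Fact p.Prime] (R : Sp) (G : Gen) {S : Type} [Group S] (h : Spor.IsoCo3 S) : RowO p S := by
  obtain ⟨e⟩ := h
  have hi : Spor.IsoCo3 Spor.Co3 := ⟨MulEquiv.refl _⟩
  have hc := NotCT.Orders.co3 hi
  have hf := BHZ.Spor.finite_of_card hc (by norm_num)
  refine RowO.of_equiv e ?_
  exact row_one R G S2045.result (by rw [S2071.result]; decide) (Or.inl (Or.inr (Or.inr (Or.inr (Or.inr (Or.inr (Or.inr (Or.inr (Or.inr (Or.inr (Or.inr (Or.inr (Or.inl hi)))))))))))))

theorem Sp.rmcl [Fact p.Prime] (R : Sp) (G : Gen) {S : Type} [Group S] (h : Spor.IsoMcL S) : RowO p S := by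
  obtain ⟨e⟩ := h
  have hi : Spor.IsoMcL Spor.McL := ⟨MulEquiv.refl _⟩
  have hc := NotCT.Orders.mcl hi
  have hf := BHZ.Spor.finite_of_card hc (by norm_num)
  refine RowO.of_equiv e ?_
  refine row_of_cov G S2047.result (by rw [S2073.result]) (fun n hn h _ => absurd (h.trans hn) (by decide))
    fun n hn h1 h3 => ?_
  rw [hc] at h3
  have hn' := Nat.le_of_dvd (by norm_num) hn
  by_cases h0 : n = 1
  · subst h0
    exact R.one p _ (Or.inl (Or.inr (Or.inr (Or.inr (Or.inr (Or.inr (Or.inr (Or.inr (Or.inr (Or.inr (Or.inr (Or.inr (Or.inr (Or.inl hi))))))))))))))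
  rcases small_prime h3 (by decide +kernel) with rfl | rfl | rfl | rfl | rfl | rfl | rfl | rfl | rfl | rfl | rfl | rfl
  all_goals first
    | exact absurd h3 (by decide +kernel)
    | (interval_cases n <;> first
        | exact absurd hn (by decide)
        | exact absurd rfl h0
        | exact absurd (by decide) h1
        | exact R.mcl_3_2 _ hi
        | exact R.mcl_3_5 _ hi)

theorem Sp.rhs [Fact p.Prime] (R : Sp) (G : Gen) {S : Type} [Group S] (h : Spor.IsoHS S) : RowO p S := by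
  obtain ⟨e⟩ := h
  have hi : Spor.IsoHS Spor.HS := ⟨MulEquiv.refl _⟩
  have hc := NotCT.Orders.hs hi
  have hf := BHZ.Spor.finite_of_card hc (by norm_num)
  refine RowO.of_equiv e ?_
  refine row_of_cov G S2046.result (by rw [S2072.result]) (fun _ _ _ _ => .inr (R.od_hs _ hi))
    fun n hn h1 h3 => ?_
  rw [hc] at h3
  have hn' := Nat.le_of_dvd (by norm_num) hn
  by_cases h0 : n = 1
  · subst h0
    exact R.one p _ (Or.inl (Or.inr (Or.inr (Or.inr (Or.inr (Or.inr (Or.inr (Or.inr (Or.inr (Or.inr (Or.inr (Or.inr (Or.inr (Or.inr (Or.inl hi)))))))))))))))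
  rcases small_prime h3 (by decide +kernel) with rfl | rfl | rfl | rfl | rfl | rfl | rfl | rfl | rfl | rfl | rfl | rfl
  all_goals first
    | exact absurd h3 (by decide +kernel)
    | (interval_cases n <;> first
        | exact absurd hn (by decide)
        | exact absurd rfl h0
        | exact absurd (by decide) h1
        | exact R.hs_2_5 _ hi)

theorem Sp.rsuz [Fact p.Prime] (R : Sp) (G : Gen) {S : Type} [Group S] (h : Spor.IsoSuz S) : RowO p S := by
  obtain ⟨e⟩ := h
  have hi : Spor.IsoSuz Spor.Suz := ⟨MulEquiv.refl _⟩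
  have hc := NotCT.Orders.suz hi
  have hf := BHZ.Spor.finite_of_card hc (by norm_num)
  refine RowO.of_equiv e ?_
  refine row_of_cov G S2048.result (by rw [S2074.result]) (fun _ _ _ _ => .inr (R.od_suz _ hi))
    fun n hn h1 h3 => ?_
  rw [hc] at h3
  have hn' := Nat.le_of_dvd (by norm_num) hn
  by_cases h0 : n = 1
  · subst h0
    exact R.one p _ (Or.inl (Or.inr (Or.inr (Or.inr (Or.inr (Or.inr (Or.inr (Or.inr (Or.inr (Or.inr (Or.inr (Or.inr (Or.inr (Or.inr (Or.inr (Or.inl hi))))))))))))))))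
  rcases small_prime h3 (by decide +kernel) with rfl | rfl | rfl | rfl | rfl | rfl | rfl | rfl | rfl | rfl | rfl | rfl
  all_goals first
    | exact absurd h3 (by decide +kernel)
    | (interval_cases n <;> first
        | exact absurd hn (by decide)
        | exact absurd rfl h0
        | exact absurd (by decide) h1
        | exact R.suz_2_3 _ hi
        | exact R.suz_3_2 _ hi)

theorem Sp.rhe [Fact p.Prime] (R : Sp) (G : Gen) {S : Type} [Group S] (h : Spor.IsoHe S) : RowO p S := by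
  obtain ⟨e⟩ := h
  have hi : Spor.IsoHe Spor.He := ⟨MulEquiv.refl _⟩
  have hc := NotCT.Orders.he hi
  have hf := BHZ.Spor.finite_of_card hc (by norm_num)
  refine RowO.of_equiv e ?_
  exact row_one R G S2049.result (by rw [S2075.result]) (Or.inl (Or.inr (Or.inr (Or.inr (Or.inr (Or.inr (Or.inr (Or.inr (Or.inr (Or.inr (Or.inr (Or.inr (Or.inr (Or.inr (Or.inr (Or.inr (Or.inl hi)))))))))))))))))

theorem Sp.rru [Fact p.Prime] (R : Sp) (G : Gen) {S : Type} [Group S] (h : Spor.IsoRu S) : RowO p S := by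
  obtain ⟨e⟩ := h
  have hi : Spor.IsoRu Spor.Ru := ⟨MulEquiv.refl _⟩
  have hc := NotCT.Orders.ru hi
  have hf := BHZ.Spor.finite_of_card hc (by norm_num)
  refine RowO.of_equiv e ?_
  refine row_of_cov G S2051.result (by rw [S2077.result]; decide) (fun _ _ _ _ => .inl (S2077.result))
    fun n hn h1 h3 => ?_
  rw [hc] at h3
  have hn' := Nat.le_of_dvd (by norm_num) hn
  by_cases h0 : n = 1
  · subst h0
    exact R.one p _ (Or.inl (Or.inr (Or.inr (Or.inr (Or.inr (Or.inr (Or.inr (Or.inr (Or.inr (Or.inr (Or.inr (Or.inr (Or.inr (Or.inr (Or.inr (Or.inr (Or.inr (Or.inl hi))))))))))))))))))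
  rcases small_prime h3 (by decide +kernel) with rfl | rfl | rfl | rfl | rfl | rfl | rfl | rfl | rfl | rfl | rfl | rfl
  all_goals first
    | exact absurd h3 (by decide +kernel)
    | (interval_cases n <;> first
        | exact absurd hn (by decide)
        | exact absurd rfl h0
        | exact absurd (by decide) h1
        | exact R.ru_2_3 _ hi
        | exact R.ru_2_5 _ hi)

theorem Sp.ron [Fact p.Prime] (R : Sp) (G : Gen) {S : Type} [Group S] (h : Spor.IsoON S) : RowO p S := by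
  obtain ⟨e⟩ := h
  have hi : Spor.IsoON Spor.ON := ⟨MulEquiv.refl _⟩
  have hc := NotCT.Orders.on hi
  have hf := BHZ.Spor.finite_of_card hc (by norm_num)
  refine RowO.of_equiv e ?_
  refine row_of_cov G S2052.result (by rw [S2078.result]) (fun n hn h _ => absurd (h.trans hn) (by decide))
    fun n hn h1 h3 => ?_
  rw [hc] at h3
  have hn' := Nat.le_of_dvd (by norm_num) hn
  by_cases h0 : n = 1
  · subst h0
    exact R.one p _ (Or.inl (Or.inr (Or.inr (Or.inr (Or.inr (Or.inr (Or.inr (Or.inr (Or.inr (Or.inr (Or.inr (Or.inr (Or.inr (Or.inr (Or.inr (Or.inr (Or.inr (Or.inr (Or.inl hi)))))))))))))))))))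
  rcases small_prime h3 (by decide +kernel) with rfl | rfl | rfl | rfl | rfl | rfl | rfl | rfl | rfl | rfl | rfl | rfl
  all_goals first
    | exact absurd h3 (by decide +kernel)
    | (interval_cases n <;> first
        | exact absurd hn (by decide)
        | exact absurd rfl h0
        | exact absurd (by decide) h1
        | exact R.on_3_2 _ hi
        | exact R.on_3_7 _ hi)

theorem Sp.rly [Fact p.Prime] (R : Sp) (G : Gen) {S : Type} [Group S] (h : Spor.IsoLy S) : RowO p S := by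
  obtain ⟨e⟩ := h
  have hi : Spor.IsoLy Spor.Ly := ⟨MulEquiv.refl _⟩
  have hc := NotCT.Orders.ly hi
  have hf := BHZ.Spor.finite_of_card hc (by norm_num)
  refine RowO.of_equiv e ?_
  exact row_one R G S2050.result (by rw [S2076.result]; decide) (Or.inl (Or.inr (Or.inr (Or.inr (Or.inr (Or.inr (Or.inr (Or.inr (Or.inr (Or.inr (Or.inr (Or.inr (Or.inr (Or.inr (Or.inr (Or.inr (Or.inr (Or.inr (Or.inr (Or.inl hi))))))))))))))))))))

theorem Sp.rfi22 [Fact p.Prime] (R : Sp) (G : Gen) {S : Type} [Group S] (h : Spor.IsoFi22 S) : RowO p S := by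
  obtain ⟨e⟩ := h
  have hi : Spor.IsoFi22 Spor.Fi22 := ⟨MulEquiv.refl _⟩
  have hc := NotCT.Orders.fi22 hi
  have hf := BHZ.Spor.finite_of_card hc (by norm_num)
  refine RowO.of_equiv e ?_
  refine row_of_cov G S2053.result (by rw [S2079.result]) (fun _ _ _ _ => .inr (R.od_fi22 _ hi))
    fun n hn h1 h3 => ?_
  rw [hc] at h3
  have hn' := Nat.le_of_dvd (by norm_num) hn
  by_cases h0 : n = 1
  · subst h0
    exact R.one p _ (Or.inl (Or.inr (Or.inr (Or.inr (Or.inr (Or.inr (Or.inr (Or.inr (Or.inr (Or.inr (Or.inr (Or.inr (Or.inr (Or.inr (Or.inr (Or.inr (Or.inr (Or.inr (Or.inr (Or.inr (Or.inl hi)))))))))))))))))))))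
  rcases small_prime h3 (by decide +kernel) with rfl | rfl | rfl | rfl | rfl | rfl | rfl | rfl | rfl | rfl | rfl | rfl
  all_goals first
    | exact absurd h3 (by decide +kernel)
    | (interval_cases n <;> first
        | exact absurd hn (by decide)
        | exact absurd rfl h0
        | exact absurd (by decide) h1
        | exact R.fi22_2_3 _ hi
        | exact R.fi22_3_2 _ hi)

theorem Sp.rfi23 [Fact p.Prime] (R : Sp) (G : Gen) {S : Type} [Group S] (h : Spor.IsoFi23 S) : RowO p S := by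
  obtain ⟨e⟩ := h
  have hi : Spor.IsoFi23 Spor.Fi23 := ⟨MulEquiv.refl _⟩
  have hc := NotCT.Orders.fi23 hi
  have hf := BHZ.Spor.finite_of_card hc (by norm_num)
  refine RowO.of_equiv e ?_
  exact row_one R G S2054.result (by rw [S2080.result]; decide) (Or.inl (Or.inr (Or.inr (Or.inr (Or.inr (Or.inr (Or.inr (Or.inr (Or.inr (Or.inr (Or.inr (Or.inr (Or.inr (Or.inr (Or.inr (Or.inr (Or.inr (Or.inr (Or.inr (Or.inr (Or.inr (Or.inl hi))))))))))))))))))))))

theorem Sp.rfi24 [Fact p.Prime] (R : Sp) (G : Gen) {S : Type} [Group S] (h : Spor.IsoFi24' S) : RowO p S := by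
  obtain ⟨e⟩ := h
  have hi : Spor.IsoFi24' Spor.Fi24' := ⟨MulEquiv.refl _⟩
  have hc := NotCT.Orders.fi24 hi
  have hf := BHZ.Spor.finite_of_card hc (by norm_num)
  refine RowO.of_equiv e ?_
  refine row_of_cov G S2055.result (by rw [S2081.result]) (fun n hn h _ => absurd (h.trans hn) (by decide))
    fun n hn h1 h3 => ?_
  rw [hc] at h3
  have hn' := Nat.le_of_dvd (by norm_num) hn
  by_cases h0 : n = 1
  · subst h0
    exact R.one p _ (Or.inl (Or.inr (Or.inr (Or.inr (Or.inr (Or.inr (Or.inr (Or.inr (Or.inr (Or.inr (Or.inr (Or.inr (Or.inr (Or.inr (Or.inr (Or.inr (Or.inr (Or.inr (Or.inr (Or.inr (Or.inr (Or.inr (Or.inl hi)))))))))))))))))))))))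
  rcases small_prime h3 (by decide +kernel) with rfl | rfl | rfl | rfl | rfl | rfl | rfl | rfl | rfl | rfl | rfl | rfl
  all_goals first
    | exact absurd h3 (by decide +kernel)
    | (interval_cases n <;> first
        | exact absurd hn (by decide)
        | exact absurd rfl h0
        | exact absurd (by decide) h1
        | exact R.fi24_3_2 _ hi
        | exact R.fi24_3_7 _ hi)

theorem Sp.rhn [Fact p.Prime] (R : Sp) (G : Gen) {S : Type} [Group S] (h : Spor.IsoHN S) : RowO p S := by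
  obtain ⟨e⟩ := h
  have hi : Spor.IsoHN Spor.HN := ⟨MulEquiv.refl _⟩
  have hc := NotCT.Orders.hn hi
  have hf := BHZ.Spor.finite_of_card hc (by norm_num)
  refine RowO.of_equiv e ?_
  exact row_one R G S2056.result (by rw [S2082.result]) (Or.inl (Or.inr (Or.inr (Or.inr (Or.inr (Or.inr (Or.inr (Or.inr (Or.inr (Or.inr (Or.inr (Or.inr (Or.inr (Or.inr (Or.inr (Or.inr (Or.inr (Or.inr (Or.inr (Or.inr (Or.inr (Or.inr (Or.inr (Or.inl hi))))))))))))))))))))))))

theorem Sp.rth [Fact p.Prime] (R : Sp) (G : Gen) {S : Type} [Group S] (h : Spor.IsoTh S) : RowO p S := by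
  obtain ⟨e⟩ := h
  have hi : Spor.IsoTh Spor.Th := ⟨MulEquiv.refl _⟩
  have hc := NotCT.Orders.th hi
  have hf := BHZ.Spor.finite_of_card hc (by norm_num)
  refine RowO.of_equiv e ?_
  exact row_one R G S2057.result (by rw [S2083.result]; decide) (Or.inl (Or.inr (Or.inr (Or.inr (Or.inr (Or.inr (Or.inr (Or.inr (Or.inr (Or.inr (Or.inr (Or.inr (Or.inr (Or.inr (Or.inr (Or.inr (Or.inr (Or.inr (Or.inr (Or.inr (Or.inr (Or.inr (Or.inr (Or.inr (Or.inl hi)))))))))))))))))))))))))

theorem Sp.rb [Fact p.Prime] (R : Sp) (G : Gen) {S : Type} [Group S] (h : Spor.IsoB S) : RowO p S := by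
  obtain ⟨e⟩ := h
  have hi : Spor.IsoB Spor.BabyMonster := ⟨MulEquiv.refl _⟩
  have hc := NotCT.Orders.b hi
  have hf := BHZ.Spor.finite_of_card hc (by norm_num)
  refine RowO.of_equiv e ?_
  refine row_of_cov G S2058.result (by rw [S2084.result]; decide) (fun _ _ _ _ => .inl (S2084.result))
    fun n hn h1 h3 => ?_
  rw [hc] at h3
  have hn' := Nat.le_of_dvd (by norm_num) hn
  by_cases h0 : n = 1
  · subst h0
    exact R.one p _ (Or.inl (Or.inr (Or.inr (Or.inr (Or.inr (Or.inr (Or.inr (Or.inr (Or.inr (Or.inr (Or.inr (Or.inr (Or.inr (Or.inr (Or.inr (Or.inr (Or.inr (Or.inr (Or.inr (Or.inr (Or.inr (Or.inr (Or.inr (Or.inr (Or.inr (Or.inl hi))))))))))))))))))))))))))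
  rcases small_prime h3 (by decide +kernel) with rfl | rfl | rfl | rfl | rfl | rfl | rfl | rfl | rfl | rfl | rfl | rfl
  all_goals first
    | exact absurd h3 (by decide +kernel)
    | (interval_cases n <;> first
        | exact absurd hn (by decide)
        | exact absurd rfl h0
        | exact absurd (by decide) h1
        | exact R.b_2_3 _ hi
        | exact R.b_2_5 _ hi
        | exact R.b_2_7 _ hi)

theorem Sp.rm [Fact p.Prime] (R : Sp) (G : Gen) {S : Type} [Group S] (h : Spor.IsoM S) : RowO p S := by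
  obtain ⟨e⟩ := h
  have hi : Spor.IsoM Spor.Monster := ⟨MulEquiv.refl _⟩
  have hc := NotCT.Orders.m hi
  have hf := BHZ.Spor.finite_of_card hc (by norm_num)
  refine RowO.of_equiv e ?_
  exact row_one R G S2059.result (by rw [S2085.result]; decide) (Or.inl (Or.inr (Or.inr (Or.inr (Or.inr (Or.inr (Or.inr (Or.inr (Or.inr (Or.inr (Or.inr (Or.inr (Or.inr (Or.inr (Or.inr (Or.inr (Or.inr (Or.inr (Or.inr (Or.inr (Or.inr (Or.inr (Or.inr (Or.inr (Or.inr (Or.inr (hi)))))))))))))))))))))))))))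

theorem Sp.spor (R : Sp) (G : Gen) : For RowO CSpor := by
  intro p _ S _ _ _ _ h
  rcases h with h | h | h | h | h | h | h | h | h | h | h | h | h | h | h | h | h | h | h | h | h | h | h | h | h | h
  · exact R.rm11 G h
  · exact R.rm12 G h
  · exact R.rm22 G h
  · exact R.rm23 G h
  · exact R.rm24 G h
  · exact R.rj1 G h
  · exact R.rj2 G h
  · exact R.rj3 G h
  · exact R.rj4 G h
  · exact R.rco1 G h
  · exact R.rco2 G h
  · exact R.rco3 G h
  · exact R.rmcl G h
  · exact R.rhs G h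
  · exact R.rsuz G h
  · exact R.rhe G h
  · exact R.rru G h
  · exact R.ron G h
  · exact R.rly G h
  · exact R.rfi22 G h
  · exact R.rfi23 G h
  · exact R.rfi24 G h
  · exact R.rhn G h
  · exact R.rth G h
  · exact R.rb G h
  · exact R.rm G h

theorem Sp.tits (R : Sp) (G : Gen) : For RowO CTits := by
  intro p _ S _ _ _ _ h
  obtain ⟨e⟩ := h
  have hi : Lie.IsoTits Lie.TitsGroup := ⟨MulEquiv.refl _⟩
  have hf := BHZ.Spor.finite_of_card (NotCT.Orders.tits hi) (by norm_num)
  exact RowO.of_equiv (T := Lie.TitsGroup) (by exact e) (row_one R G S2115.result (R.out_tits _ hi) (Or.inr hi))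

end Cfsg.Agent.OM
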