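import Cfsg.Agent.H657.IBrBlock
import Cfsg.Agent.H592.HarStar
import Cfsg.Prelude.Def_CaseTheorems

/-!
# OM (S4894): statements of the reduction to quasisimple groups (helper8)

* `PRat`, `R1`, `Mn`, `OMg`, `IH` : the statement for one group and the induction hypothesis;
* `Sit`, `One`, `ExtA`, `ExtO`, `Lift`, `QS` : **the quasisimple box**;
* `Lf`, `Tri`, `Cf`, `Box...` : the internal steps of the reduction.
-/

set_option autoImplicit false

namespace Cfsg.Agent.OM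

open Cfsg Subgroup Cfsg.Agent.H657 Cfsg.Agent.H592.Har

universe u

/-- `p`-rational, the wording of the statement -/
def PRat (p : ℕ) {G : Type*} (χ : G → ℂ) : Prop :=
  ∃ n : ℕ, ¬ p ∣ n ∧ ∀ g : G, χ g ∈ IntermediateField.adjoin ℚ ({Complex.exp (2 * Real.pi * Complex.I / n)} : Set ℂ)

section one

variable {G : Type u} [Group G]

/-- rank one: the members of `B` are proportional on the `p`-regular elements -/
def R1 (p : ℕ) (B : Set (IrrCharacter G)) : Prop :=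
  ∀ χ ∈ B, ∀ ψ ∈ B, ∀ x : G, IsPRegular p x → (χ : G → ℂ) x * (ψ : G → ℂ) 1 = (ψ : G → ℂ) x * (χ : G → ℂ) 1

/-- a member whose degree divides all degrees -/
def Mn (B : Set (IrrCharacter G)) (χ : IrrCharacter G) : Prop :=
  χ ∈ B ∧ ∀ ψ ∈ B, charDegree (χ : G → ℂ) ∣ charDegree (ψ : G → ℂ)

end one

/-- the statement for one group -/
def OMg (p : ℕ) (M : Ideal AlgInt) (G : Type u) [Group G] : Prop :=
  ∀ B : Set (IrrCharacter G), IsPBlock M B → R1 p B → ∃ χ, Mn B χ ∧ (p ≠ 2 → PRat p (χ : G → ℂ))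

/-- the induction hypothesis -/
def IH (p : ℕ) (M : Ideal AlgInt) (n : ℕ) : Prop :=
  ∀ (L : Type) [Group L] [Finite L], (center L).index < n → OMg p M L

/-! ### the quasisimple box -/

section qs

variable {X : Type} [Group X]

variable (X) in
/-- the situation: a quasisimple group and a group of automorphisms -/
structure Sit (p : ℕ) (M : Ideal AlgInt) (Γ : Subgroup (MulAut X)) : Prop where
  qs : IsQuasisimple X
  ndvd : ¬ p ∣ Nat.card (center X)
  cyc : IsCyclic (center X)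
  dvd : p ∣ Nat.card X
  inn : ∀ x : X, MulAut.conj x ∈ Γ
  fix : ∀ α ∈ Γ, ∀ z ∈ center X, α z = z
  ih : IH p M (Nat.card Γ)

/-- the orbit sums are proportional on the `p`-regular elements (the Brauer characters of `b` are conjugate under `Γ`) -/
def One (p : ℕ) (Γ : Subgroup (MulAut X)) (b : Set (IrrCharacter X)) : Prop :=
  ∀ θ ∈ b, ∀ θ' ∈ b, ∀ x : X, IsPRegular p x →
    (∑ᶠ α : Γ, (θ : X → ℂ) (α.1 x)) * (θ' : X → ℂ) 1 = (∑ᶠ α : Γ, (θ' : X → ℂ) (α.1 x)) * (θ : X → ℂ) 1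

/-- `θ` extends to the group `X.S`, in terms of automorphisms -/
def ExtA (p : ℕ) (S : Subgroup (MulAut X)) (θ : X → ℂ) : Prop :=
  ∃ (A : Type) (_ : Group A) (j : X →* A) (t : S →* A) (Ψ : A → ℂ), IsCharacter A Ψ ∧ (∀ x, Ψ (j x) = θ x) ∧
    (∀ (α : S) (x : X), t α * j x = j (α.1 x) * t α) ∧
    ∀ (y : X) (h : MulAut.conj y ∈ S), (∃ k : ℕ, y ^ p ^ k = 1) → t ⟨_, h⟩ = j y

/-- the extension property for all `p`-groups of automorphisms in `Γ` which fix `θ` -/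
def Ext (p : ℕ) (Γ : Subgroup (MulAut X)) (θ : X → ℂ) : Prop :=
  ∀ S : Subgroup (MulAut X), S ≤ Γ → IsPGroup p S → (∀ α ∈ S, ∀ x, θ (α x) = θ x) → ExtA p S θ

/-- the extension property in terms of overgroups (it implies `Ext`, see `BoxExtO`) -/
def ExtO (p : ℕ) (Γ : Subgroup (MulAut X)) (θ : X → ℂ) : Prop :=
  ∀ (Y : Type) [Group Y] [Finite Y] (e : X →* Y), Function.Injective e →
    (∀ y : Y, ∃ α ∈ Γ, (∀ x, θ (α x) = θ x) ∧ ∀ x, y * e x * y⁻¹ = e (α x)) →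
    (∀ y : Y, ∃ k : ℕ, y ^ p ^ k ∈ e.range) → (∀ y : Y, (∀ x, y * e x = e x * y) → y ∈ e.range) →
    ∃ Ψ : Y → ℂ, IsCharacter Y Ψ ∧ ∀ x, Ψ (e x) = θ x

/-- what a row delivers -/
structure Lift (p : ℕ) (Γ : Subgroup (MulAut X)) (b : Set (IrrCharacter X)) (θ : IrrCharacter X) : Prop where
  mn : Mn b θ
  fix : ∀ α ∈ Γ, (∀ x, IsPRegular p x → (θ : X → ℂ) (α x) = (θ : X → ℂ) x) → ∀ x, (θ : X → ℂ) (α x) = (θ : X → ℂ) x
  rat : p ≠ 2 → PRat p (θ : X → ℂ)
  ext : p = 2 → Ext p Γ (θ : X → ℂ)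

variable (X) in
/-- the statement for one quasisimple group -/
def QSg (p : ℕ) (M : Ideal AlgInt) : Prop :=
  ∀ Γ : Subgroup (MulAut X), Sit X p M Γ → ∀ b : Set (IrrCharacter X), IsPBlock M b →
    (∀ θ ∈ b, ∀ z ∈ center X, (θ : X → ℂ) z = (θ : X → ℂ) 1 → z = 1) → One p Γ b → ∃ θ, Lift p Γ b θ

end qs

/-- **the quasisimple box** at `p`, `M` -/
def QS (p : ℕ) (M : Ideal AlgInt) : Prop := ∀ (X : Type) [Group X] [Finite X], QSg X p M

/-- **the quasisimple box** -/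
def QSAll : Prop := ∀ (p : ℕ) (M : Ideal AlgInt), IsPModular p M → QS p M

/-! ### internal steps -/

/-- the restriction to the `p`-regular elements is an irreducible Brauer character -/
def Lf (p : ℕ) (V : ValuationSubring ℂ) {G : Type*} [Group G] (χ : G → ℂ) : Prop :=
  ∃ j : IBr V G, ∀ x, IsPRegular p x → χ x = phi p j x

/-- a good character of a normal subgroup -/
structure Tri (p : ℕ) (V : ValuationSubring ℂ) {G : Type} [Group G] (N : Subgroup G) [N.Normal] (θ : N → ℂ) : Prop where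
  irr : IsIrrCharacter N θ
  lf : Lf p V θ
  sta : ∀ g : G, (∀ n : N, IsPRegular p n → θ (MulAut.conjNormal g n) = θ n) → ∀ n : N, θ (MulAut.conjNormal g n) = θ n
  rat : p ≠ 2 → PRat p θ
  ext : p = 2 → ∀ (P : Subgroup G) (h : N ≤ P), (∀ y ∈ P, ∃ k : ℕ, y ^ p ^ k ∈ N) →
    (∀ g ∈ P, ∀ n : N, θ (MulAut.conjNormal g n) = θ n) →
    ∃ Ψ : P → ℂ, IsCharacter P Ψ ∧ ∀ n : N, Ψ ⟨n, h n.2⟩ = θ n

/-- a group `G` which permutes commuting copies `e i` of `X` transitively -/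
structure Cf {X : Type} [Group X] (Γ : Subgroup (MulAut X)) (G : Type) [Group G] (ι : Type) where
  /-- the copies -/
  e : ι → (X →* G)
  /-- the permutation action -/
  π : G →* Equiv.Perm ι
  /-- the induced automorphisms -/
  a : G → ι → MulAut X
  inj : ∀ i, Function.Injective (e i)
  ha : ∀ g i x, g * e i x * g⁻¹ = e (π g i) (a g i x)
  mem : ∀ g i, a g i ∈ Γ
  onto : ∀ i j, ∀ α ∈ Γ, ∃ g, π g i = j ∧ a g i = α
  ne : Nonempty ι
  comm : ∀ i j, i ≠ j → ∀ x y, e i x * e j y = e j y * e i x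
  pie : ∀ i x, π (e i x) = 1
  cen : ∀ i, ∀ z ∈ center X, e i z ∈ center G

/-- the product of the centre and the copies -/
def Cf.N {X : Type} [Group X] {Γ : Subgroup (MulAut X)} {G : Type} [Group G] {ι : Type} (c : Cf Γ G ι) : Subgroup G :=
  center G ⊔ ⨆ i, (c.e i).range

theorem Cf.e_mem {X : Type} [Group X] {Γ : Subgroup (MulAut X)} {G : Type} [Group G] {ι : Type} (c : Cf Γ G ι)
    (i : ι) (x : X) : c.e i x ∈ c.N :=
  mem_sup_right (mem_iSup_of_mem i ⟨x, rfl⟩)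

/-- Gallagher's theorem for Brauer characters, and the cancellation law -/
def BoxGal : Prop :=
  ∀ (p : ℕ) (M : Ideal AlgInt) (V : ValuationSubring ℂ), IsPModular p M → Above M V →
    ∀ (N E : Type) [Group N] [Group E] [Finite E] (s : N →* E) [s.range.Normal], Function.Injective s →
    ∀ (k : IBr V E) (j : IBr V N), (∀ n, phi p k (s n) = phi p j n) →
      (∀ h : E ⧸ s.range, IsPRegular p h → ∃ x : E, IsPRegular p x ∧ (x : E ⧸ s.range) = h ∧ phi p k x ≠ 0) ∧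
      ∀ a : IBr V E, (∃ c : ℂ, ∀ n, phi p a (s n) = c * phi p j n) →
        ∃ (m : ℕ) (idx : Fin m → IBr V (E ⧸ s.range)), ∀ x : E, IsPRegular p x →
          phi p a x = phi p k x * ∑ l, phi p (idx l) (x : E ⧸ s.range)

/-- the cover for odd `p` -/
def BoxCovOdd : Prop :=
  ∀ (p : ℕ) (M : Ideal AlgInt) (V : ValuationSubring ℂ), IsPModular p M → Above M V → p ≠ 2 →
    ∀ (T : Type) [Group T] [Finite T] (N : Subgroup T) [N.Normal] (θ : N → ℂ), IsIrrCharacter N θ →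
      (∀ (g : T) (n : N), θ (MulAut.conjNormal g n) = θ n) → Lf p V θ → PRat p θ →
      ∃ (E : Type) (_ : Group E) (_ : Finite E) (C : Cover p N θ E), PRat p C.ψ

/-- the cover from an extension to a subgroup of index prime to `p` -/
def BoxCovExt : Prop :=
  ∀ p : ℕ, p.Prime → ∀ (T : Type) [Group T] [Finite T] (N : Subgroup T) [N.Normal] (θ : N → ℂ), IsIrrCharacter N θ →
    (∀ (g : T) (n : N), θ (MulAut.conjNormal g n) = θ n) → ∀ (P : Subgroup T) (h : N ≤ P), ¬ p ∣ P.index →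
    (∃ Ψ : P → ℂ, IsCharacter P Ψ ∧ ∀ n : N, Ψ ⟨n, h n.2⟩ = θ n) →
    ∃ (E : Type) (_ : Group E) (_ : Finite E), Nonempty (Cover p N θ E)

/-- from overgroups to automorphisms -/
def BoxExtO : Prop :=
  ∀ p : ℕ, p.Prime → ∀ (X : Type) [Group X] [Finite X], ¬ p ∣ Nat.card (center X) →
    ∀ (Γ : Subgroup (MulAut X)), (∀ x : X, MulAut.conj x ∈ Γ) → ∀ θ : X → ℂ, IsIrrCharacter X θ → ExtO p Γ θ → Ext p Γ θ

/-- tensor induction -/
def BoxTens : Prop :=
  ∀ p : ℕ, p.Prime → ∀ (X : Type) [Group X] [Finite X] (Γ : Subgroup (MulAut X)) (G : Type) [Group G] [Finite G]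
    (ι : Type) [Fintype ι] (c : Cf Γ G ι) [c.N.Normal], IsQuasisimple X → ¬ p ∣ Nat.card (center G) →
    ∀ (θ : c.N → ℂ) (ϑ : ι → X → ℂ), IsIrrCharacter c.N θ → (∀ i, IsIrrCharacter X (ϑ i)) →
      (∀ i x, θ ⟨c.e i x, c.e_mem i x⟩ * ϑ i 1 = ϑ i x * θ 1) → (∀ i, Ext p Γ (ϑ i)) →
      ∀ (P : Subgroup G) (h : c.N ≤ P), (∀ y ∈ P, ∃ k : ℕ, y ^ p ^ k ∈ c.N) →
        (∀ g ∈ P, ∀ n : c.N, θ (MulAut.conjNormal g n) = θ n) →
        ∃ Ψ : P → ℂ, IsCharacter P Ψ ∧ ∀ n : c.N, Ψ ⟨n, h n.2⟩ = θ n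

/-- the step through the components -/
def BoxComp : Prop :=
  ∀ (p : ℕ) (M : Ideal AlgInt) (V : ValuationSubring ℂ), IsPModular p M → Above M V →
    ∀ (X : Type) [Group X] [Finite X] (Γ : Subgroup (MulAut X)) (G : Type) [Group G] [Finite G]
      (ι : Type) [Fintype ι] (c : Cf Γ G ι) [c.N.Normal] [Fintype c.N], QSg X p M → Sit X p M Γ →
      ¬ p ∣ Nat.card (center G) → ∀ B : Set (IrrCharacter G), IsPBlock M B → R1 p B →
      (∀ χ ∈ B, ∀ z ∈ center G, (χ : G → ℂ) z = (χ : G → ℂ) 1 → z = 1) →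
      ∃ θ : c.N → ℂ, Tri p V c.N θ ∧ ∃ χ ∈ B, classInner (fun n : c.N => (χ : G → ℂ) n) θ ≠ 0

/-- the components over a non-abelian minimal normal subgroup of the central quotient -/
def BoxCf : Prop :=
  ∀ (p : ℕ) (M : Ideal AlgInt), p.Prime → ∀ (G : Type) [Group G] [Finite G] (N : Subgroup G), N.Normal → center G ≤ N →
    (∀ K : Subgroup G, K.Normal → center G ≤ K → K ≤ N → K = center G ∨ K = N) → ¬ ⁅N, N⁆ ≤ center G →
    ¬ p ∣ Nat.card (center G) → IsCyclic (center G) → p ∣ Nat.card N → IH p M (center G).index →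
    ∃ (X : Type) (_ : Group X) (_ : Finite X) (Γ : Subgroup (MulAut X)) (ι : Type) (_ : Fintype ι) (c : Cf Γ G ι),
      c.N = N ∧ Sit X p M Γ

end Cfsg.Agent.OM
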