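import Cfsg.Agent.OM.Red.Main
import Cfsg.Agent.BZ.Defs
import Cfsg.Agent.H609.TwoDefect
import Cfsg.Agent.S0000

/-!
# OM (S4894): the rows (helper50)

* `Hyp p M Γ b D σ` : the situation of the quasisimple box for the cover `σ : X →* S`, with a block `b` which is not
  principal and not nilpotent and has a non-cyclic defect group `D`;
* `RowO p S` : such a block has a good lift; `RowN p S` : there is no such block;
* `BoxCyc`, `BoxPri`, `BoxNil` : the general boxes; `qsAll_of` : the assembly.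
-/

set_option autoImplicit false

namespace Cfsg.Agent.OM

open Cfsg Subgroup Cfsg.Agent.KM Cfsg.Agent.BZ

/-- the hypothesis of a row; `σ` is the quotient by the centre -/
structure Hyp (p : ℕ) (M : Ideal AlgInt) {X : Type} [Group X] (Γ : Subgroup (MulAut X)) (b : Set (IrrCharacter X))
    (D : Subgroup X) {S : Type} [Group S] (σ : X →* S) : Prop where
  hM : IsPModular p M
  sit : Sit X p M Γ
  hb : IsPBlock M b
  hD : IsDefectGroup p M b D
  faith : ∀ θ ∈ b, ∀ z ∈ center X, (θ : X → ℂ) z = (θ : X → ℂ) 1 → z = 1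
  one : One p Γ b
  nc : ¬ IsCyclic D
  np : ∀ θ ∈ b, ∃ x, (θ : X → ℂ) x ≠ 1
  nn : ¬ IsNilpotentBlock p M b
  surj : Function.Surjective σ
  ker : σ.ker = center X

/-- **S4894** for the covers of `S` -/
def RowO : Prd := fun p S _ =>
  ∀ (X : Type) [Group X] [Finite X] (σ : X →* S) (M : Ideal AlgInt) (Γ : Subgroup (MulAut X))
    (b : Set (IrrCharacter X)) (D : Subgroup X), Hyp p M Γ b D σ → ∃ θ, Lift p Γ b θ

/-- the hypothesis never holds -/
def RowN : Prd := fun p S _ =>
  ∀ (X : Type) [Group X] [Finite X] (σ : X →* S) (M : Ideal AlgInt) (Γ : Subgroup (MulAut X))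
    (b : Set (IrrCharacter X)) (D : Subgroup X), ¬ Hyp p M Γ b D σ

theorem RowN.rowO {p : ℕ} {S : Type} [Group S] (h : RowN p S) : RowO p S :=
  fun X _ _ σ M Γ b D H => (h X σ M Γ b D H).elim

theorem For.rowO {C : Prd} (h : For RowN C) : For RowO C := fun p _ S _ _ _ hS hC => (h p S hS hC).rowO

theorem Hyp.congr {p : ℕ} {M : Ideal AlgInt} {X : Type} [Group X] {Γ : Subgroup (MulAut X)}
    {b : Set (IrrCharacter X)} {D : Subgroup X} {S T : Type} [Group S] [Group T] {σ : X →* S} (H : Hyp p M Γ b D σ)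
    (e : S ≃* T) : Hyp p M Γ b D (e.toMonoidHom.comp σ) :=
  { H with
    surj := e.surjective.comp H.surj
    ker := by
      rw [← H.ker]
      ext x
      simp [MonoidHom.mem_ker] }

theorem RowO.of_equiv {p : ℕ} {S T : Type} [Group S] [Group T] (e : S ≃* T) (h : RowO p T) : RowO p S :=
  fun X _ _ _ M Γ b D H => h X _ M Γ b D (H.congr e)

theorem RowN.of_equiv {p : ℕ} {S T : Type} [Group S] [Group T] (e : S ≃* T) (h : RowN p T) : RowN p S :=
  fun X _ _ _ M Γ b D H => h X _ M Γ b D (H.congr e)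

/-- the automorphisms which fix the centre pointwise -/
def Fz (X : Type) [Group X] : Subgroup (MulAut X) where
  carrier := {α | ∀ z ∈ center X, α z = z}
  one_mem' := fun _ _ => rfl
  mul_mem' := fun {a b} ha hb z hz => by rw [MulAut.mul_apply, hb z hz, ha z hz]
  inv_mem' := fun {a} ha z hz => by
    have := ha z hz
    conv_lhs => rw [← this]
    exact a.symm_apply_apply z

theorem Hyp.le_Fz {p : ℕ} {M : Ideal AlgInt} {X : Type} [Group X] {Γ : Subgroup (MulAut X)}
    {b : Set (IrrCharacter X)} {D : Subgroup X} {S : Type} [Group S] {σ : X →* S} (H : Hyp p M Γ b D σ) : Γ ≤ Fz X :=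
  fun α h => H.sit.fix α h

/-- cyclic defect groups -/
def BoxCyc : Prop :=
  ∀ (p : ℕ) (M : Ideal AlgInt), IsPModular p M → ∀ (X : Type) [Group X] [Finite X] (Γ : Subgroup (MulAut X)),
    Sit X p M Γ → ∀ b : Set (IrrCharacter X), IsPBlock M b → One p Γ b → ∀ D : Subgroup X, IsDefectGroup p M b D →
    IsCyclic D → ∃ θ, Lift p Γ b θ

/-- the principal block -/
def BoxPri : Prop :=
  ∀ (p : ℕ) (M : Ideal AlgInt), IsPModular p M → ∀ (X : Type) [Group X] [Finite X] (Γ : Subgroup (MulAut X)),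
    Sit X p M Γ → ∀ b : Set (IrrCharacter X), IsPBlock M b → One p Γ b → ∀ θ ∈ b, (∀ x, (θ : X → ℂ) x = 1) →
    ∃ θ, Lift p Γ b θ

/-- nilpotent blocks -/
def BoxNil : Prop :=
  ∀ (p : ℕ) (M : Ideal AlgInt), IsPModular p M → ∀ (X : Type) [Group X] [Finite X] (Γ : Subgroup (MulAut X)),
    ¬ p ∣ Nat.card (center X) → (∀ x : X, MulAut.conj x ∈ Γ) → ∀ b : Set (IrrCharacter X), IsNilpotentBlock p M b →
    ∃ θ, Lift p Γ b θ

/-- **the quasisimple box from the general boxes and the rows** -/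
theorem qsAll_of (hC : BoxCyc) (hP : BoxPri) (hN : BoxNil) (R : All RowO) : QSAll := by
  intro p M hM X _ _ Γ hS b hb hf h1
  have : Fact p.Prime := ⟨hM.1⟩
  obtain ⟨D, hD⟩ := H609.TwoDefect.exists_defectGroup hM hb
  by_cases hc : IsCyclic D
  · exact hC p M hM X Γ hS b hb h1 D hD hc
  by_cases hn : IsNilpotentBlock p M b
  · exact hN p M hM X Γ hS.ndvd hS.inn b hn
  by_cases hp : ∃ θ ∈ b, ∀ x, (θ : X → ℂ) x = 1
  · obtain ⟨θ, h, h'⟩ := hp
    exact hP p M hM X Γ hS b hb h1 θ h h'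
  have hK := hS.qs
  have := hK.2
  refine R.known p (X ⧸ center X) (fun hab => ?_) (S0000.result (G := X ⧸ center X)) X (QuotientGroup.mk' _) M Γ b D
    ⟨hM, hS, hb, hD, hf, h1, hc, fun θ h => not_forall.1 fun h' => hp ⟨θ, h, h'⟩, hn, QuotientGroup.mk'_surjective _,
      QuotientGroup.ker_mk' _⟩
  have h2 : commutator X ≤ center X := by
    rw [← QuotientGroup.ker_mk' (center X), commutator_def, Subgroup.commutator_le]
    intro a _ b _
    rw [MonoidHom.mem_ker, map_commutatorElement, commutatorElement_eq_one_iff_mul_comm]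
    exact hab.is_comm.comm _ _
  rw [hK.1.commutator_eq_top] at h2
  obtain ⟨x, y, hxy⟩ := exists_pair_ne (X ⧸ center X)
  obtain ⟨a, rfl⟩ := QuotientGroup.mk_surjective x
  obtain ⟨c, rfl⟩ := QuotientGroup.mk_surjective y
  exact hxy (QuotientGroup.eq.2 (h2 (Subgroup.mem_top _)))

end Cfsg.Agent.OM
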