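import Cfsg.Agent.OM.Df.Main
import Cfsg.Agent.OM.Alt.Main
import Cfsg.Agent.OM.Gen.Cyc
import Cfsg.Agent.OM.Lo.N2
import Cfsg.Agent.OM.Lo.N3
import Cfsg.Agent.OM.Lo.Idx
import Cfsg.Agent.BZ.X2.Rows
import Cfsg.Agent.H334.KW.Small
import Cfsg.Agent.S0252
import Cfsg.Agent.S0256
import Cfsg.Agent.S0292
import Cfsg.Agent.S0293
import Cfsg.Agent.S0822
import Cfsg.Agent.S1059
import Cfsg.Agent.S1062
import Cfsg.Agent.S1066

/-!
# OM (S4894): the assembly (helper50)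

* `Lg` : the list of the rows for the generic covers in cross characteristic;
* `qsAll_final (h5 : BoxN5) (R : Sp) (E : Xc) (L : Lg) : QSAll`.
-/

set_option autoImplicit false

namespace Cfsg.Agent.OM

open Cfsg Cfsg.Agent.KM Cfsg.Agent.BZ Cfsg.Agent.OM.Lo Cfsg.Agent.ODD.Cv Subgroup

/-- the generic covers in cross characteristic -/
structure Lg : Prop where
  psl : ∀ (r p : ℕ) [Fact r.Prime] [Fact p.Prime], p ≠ r → ∀ (F : Type) [Field F] [Fintype F] [CharP F r] (n : ℕ), 2 ≤ n →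
    (n = 2 → 4 ≤ Fintype.card F) → CovG r p (Matrix.ProjectiveSpecialLinearGroup (Fin n) F)
  psp : ∀ (r p : ℕ) [Fact r.Prime] [Fact p.Prime], p ≠ r → ∀ (F : Type) [Field F] [Fintype F] [CharP F r] (m : ℕ), 2 ≤ m →
    (m = 2 → 3 ≤ Fintype.card F) → CovG r p (PSp m F)
  psu : ∀ (r p : ℕ) [Fact r.Prime] [Fact p.Prime], p ≠ r → ∀ (F : Type) [Field F] [Fintype F] [CharP F r] (n q : ℕ),
    Fintype.card F = q ^ 2 → 3 ≤ n → ¬ (n = 3 ∧ q = 2) → CovG r p (PSU n F q)
  oodd : ∀ (r p : ℕ) [Fact r.Prime] [Fact p.Prime], p ≠ r → ∀ (F : Type) [Field F] [Fintype F] [CharP F r] (m : ℕ), 3 ≤ m →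
    Odd (Fintype.card F) → CovG r p (POmega F (quadFormOdd m F))
  oplus : ∀ (r p : ℕ) [Fact r.Prime] [Fact p.Prime], p ≠ r → ∀ (F : Type) [Field F] [Fintype F] [CharP F r] (m : ℕ), 4 ≤ m →
    CovG r p (POmega F (quadFormPlus m F))
  ominus : ∀ (r p : ℕ) [Fact r.Prime] [Fact p.Prime], p ≠ r → ∀ (F : Type) [Field F] [Fintype F] [CharP F r] (m : ℕ)
    (a b : F), 4 ≤ m → (∀ z₁ z₂ : F, z₁ ^ 2 + a * z₁ * z₂ + b * z₂ ^ 2 = 0 → z₁ = 0 ∧ z₂ = 0) →
    CovG r p (POmega F (quadFormMinus (m - 1) F a b))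
  g2 : ∀ (r p : ℕ) [Fact r.Prime] [Fact p.Prime], p ≠ r → ∀ (F : Type) [Field F] [Fintype F] [CharP F r],
    3 ≤ Fintype.card F → CovG r p (Lie.chevG2.group F)
  f4 : ∀ (r p : ℕ) [Fact r.Prime] [Fact p.Prime], p ≠ r → ∀ (F : Type) [Field F] [Fintype F] [CharP F r],
    CovG r p (Lie.chevF4.group F)
  e6 : ∀ (r p : ℕ) [Fact r.Prime] [Fact p.Prime], p ≠ r → ∀ (F : Type) [Field F] [Fintype F] [CharP F r],
    CovG r p (Lie.chevE6.group F)
  e7 : ∀ (r p : ℕ) [Fact r.Prime] [Fact p.Prime], p ≠ r → ∀ (F : Type) [Field F] [Fintype F] [CharP F r],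
    CovG r p (Lie.chevE7.group F)
  e8 : ∀ (r p : ℕ) [Fact r.Prime] [Fact p.Prime], p ≠ r → ∀ (F : Type) [Field F] [Fintype F] [CharP F r],
    CovG r p (Lie.chevE8.group F)
  te6 : ∀ (r p : ℕ) [Fact r.Prime] [Fact p.Prime], p ≠ r → ∀ (F : Type) [Field F] [Fintype F] [CharP F r] (q : ℕ),
    IsPrimePow q → Fintype.card F = q ^ 2 → CovG r p (Lie.twistedE6 F q)
  td4 : ∀ (r p : ℕ) [Fact r.Prime] [Fact p.Prime], p ≠ r → ∀ (F : Type) [Field F] [Fintype F] [CharP F r] (q : ℕ),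
    IsPrimePow q → Fintype.card F = q ^ 3 → CovG r p (Lie.twistedD4 F q)
  ree : ∀ (F : Type) [Field F] [Fintype F] (m : ℕ), 1 ≤ m → Fintype.card F = 3 ^ (2 * m + 1) →
    CovG 3 2 (Lie.twistedG2 F (3 ^ m))
  tf4 : ∀ (p : ℕ) [Fact p.Prime], p ≠ 2 → ∀ (F : Type) [Field F] [Fintype F] (m : ℕ), 1 ≤ m →
    Fintype.card F = 2 ^ (2 * m + 1) → CovG 2 p (Lie.twistedF4 F (2 ^ m))

namespace Gl

variable {r p : ℕ} {S : Type} [Group S]

theorem of_mb {m : ℕ} (h : MB S m) (hr : ¬ r ∣ m) : CovX r p S := fun X _ _ σ _ _ _ _ H h1 =>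
  (hr (h1.trans (H.ker ▸ h X H.sit.qs.1.commutator_eq_top σ H.surj H.ker.le))).elim

theorem of_cyc {m : ℕ} (h : HasCyclicSchurMultiplier S m) (hr : ¬ r ∣ m) : CovX r p S := of_mb (MB.of_cyc h) hr

/-- cyclic Sylow subgroups -/
theorem of_isCyclic (h : ∀ P : Subgroup S, IsPGroup p P → IsCyclic P) : RowO p S := fun X _ _ σ _ _ _ D H => by
  have := Fact.mk H.hM.1
  have h1 := h _ (H.pg.map σ)
  refine (H.nc (isCyclic_of_injective (σ.subgroupMap D) ((injective_iff_map_eq_one _).2 fun x hx => ?_))).elim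
  have h2 : (x : X) ∈ center X := H.ker ▸ congrArg Subtype.val hx
  obtain ⟨k, hk⟩ := (IsPGroup.iff_orderOf.1 H.pg) x
  have h3 : orderOf x ∣ Nat.card (center X) := by
    rw [← orderOf_coe, ← orderOf_mk _ h2]
    exact orderOf_dvd_natCard _
  rcases k with _ | k
  · exact orderOf_eq_one_iff.1 (hk.trans (pow_zero p))
  · exact (H.sit.ndvd ((dvd_pow_self p k.succ_ne_zero).trans (hk ▸ h3))).elim

variable [hp : Fact p.Prime]

theorem of_card {N : ℕ} (hc : Nat.card S = N) (hN : N ∣ (2 * 3 * 5 * 7) ^ 36 * (11 * 13 * 17 * 19))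
    (h : p = 2 ∨ p = 3 ∨ p = 5 ∨ p = 7 → p ^ 2 ∣ N → CovX r p S) : CovX r p S := by
  by_cases h1 : p ^ 2 ∣ N
  · refine h ?_ h1
    have h2 : ∀ q : ℕ, q.Prime → (p ∣ q ↔ p = q) := fun q hq => Nat.prime_dvd_prime_iff_eq hp.out hq
    by_cases h3 : p ∣ 2 * 3 * 5 * 7
    · simpa only [hp.out.dvd_mul, h2 2 (by norm_num), h2 3 (by norm_num), h2 5 (by norm_num), h2 7 (by norm_num),
        or_assoc] using h3
    have h4 : p ^ 2 ∣ 11 * 13 * 17 * 19 :=
      (Nat.Coprime.pow 2 36 ((Nat.Prime.coprime_iff_not_dvd hp.out).2 h3)).dvd_of_dvd_mul_left (h1.trans hN)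
    have h5 := (dvd_pow_self p two_ne_zero).trans h4
    simp only [hp.out.dvd_mul, h2 11 (by norm_num), h2 13 (by norm_num), h2 17 (by norm_num), h2 19 (by norm_num),
      or_assoc] at h5
    rcases h5 with rfl | rfl | rfl | rfl <;> exact absurd h4 (by norm_num)
  · exact (rowO_of_sq (hc ▸ h1)).covX

theorem alt {n : ℕ} (hn : 5 ≤ n) (e : S ≃* alternatingGroup (Fin n)) [Finite S] [IsSimpleGroup S]
    (hS : ¬ IsMulCommutative S) : RowO p S := Alt.row_alt p S hS ⟨n, hn, ⟨e⟩⟩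

variable [hr : Fact r.Prime] {F : Type} [Field F] [Fintype F] [CharP F r]

theorem ndvd_sub {q k : ℕ} (hq : r ∣ q) (h0 : 1 < q) (hk : k ≠ 0) : ¬ r ∣ q ^ k - 1 := fun h => by
  obtain ⟨k, rfl⟩ := Nat.exists_eq_succ_of_ne_zero hk
  exact Pr.ne_of hq h0 h rfl

theorem ndvd_add {q k : ℕ} (hq : r ∣ q) (hk : k ≠ 0) : ¬ r ∣ q ^ k + 1 := fun h =>
  hr.out.not_dvd_one ((Nat.dvd_add_right (hq.trans (dvd_pow_self q hk))).1 h)

theorem ndvd1 : ¬ r ∣ Fintype.card F - 1 := by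
  simpa using ndvd_sub (Pr.dvd_card (F := F)) Fintype.one_lt_card one_ne_zero

theorem ndvd2 {q k : ℕ} (hF : Fintype.card F = q ^ k) : ¬ r ∣ q + 1 := by
  simpa using ndvd_add (hr.out.dvd_of_dvd_pow (hF ▸ Pr.dvd_card (F := F))) one_ne_zero

theorem psl (E : Xc) (hpr : p ≠ r) {n : ℕ} (hn : 2 ≤ n) (h2 : n = 2 → 4 ≤ Fintype.card F)
    (e : S ≃* Matrix.ProjectiveSpecialLinearGroup (Fin n) F) [Finite S] [IsSimpleGroup S] (hS : ¬ IsMulCommutative S) :
    CovX r p S := by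
  by_cases a1 : n = 2 ∧ Fintype.card F = 4
  · obtain ⟨rfl, a⟩ := a1
    obtain ⟨i⟩ := S0252.result a
    exact (alt le_rfl (e.trans i) hS).covX
  by_cases a2 : n = 2 ∧ Fintype.card F = 9
  · obtain ⟨rfl, a⟩ := a2
    obtain ⟨i⟩ := S0254.result a
    exact (alt (by norm_num) (e.trans i) hS).covX
  by_cases a3 : n = 4 ∧ Fintype.card F = 2
  · obtain ⟨rfl, a⟩ := a3
    obtain ⟨i⟩ := S0256.result a
    exact (alt (by norm_num) (e.trans i) hS).covX
  refine CovX.of_equiv e ?_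
  by_cases a4 : n = 3 ∧ Fintype.card F = 2
  · obtain ⟨rfl, a⟩ := a4
    obtain rfl : r = 2 := Pr.eq_of (k := 1) Nat.prime_two a
    have h := S0243.result a 3 hn
    refine of_card (N := 168) (by simp [Fin.prod_univ_three] at h; omega) (by norm_num) ?_
    rintro (rfl | rfl | rfl | rfl) h <;> first
      | exact absurd rfl hpr
      | exact absurd h (by norm_num)
  by_cases a5 : n = 3 ∧ Fintype.card F = 4
  · obtain ⟨rfl, a⟩ := a5
    obtain rfl : r = 2 := Pr.eq_of (k := 2) Nat.prime_two a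
    have h := S0243.result a 3 hn
    refine of_card (N := 20160) (by simp [Fin.prod_univ_three] at h; omega) (by norm_num) ?_
    rintro (rfl | rfl | rfl | rfl) h <;> first
      | exact absurd rfl hpr
      | exact E.l34 F a
      | exact absurd h (by norm_num)
  exact of_cyc (S2086.result (F := F) rfl n hn h2 (by
    simp only [Set.mem_insert_iff, Set.mem_singleton_iff, Prod.mk.injEq]
    tauto)) fun h => ndvd1 (h.trans (Nat.gcd_dvd_right _ _))

theorem psp (E : Xc) (hpr : p ≠ r) {m : ℕ} (hm : 2 ≤ m) (h2 : m = 2 → 3 ≤ Fintype.card F) : CovX r p (PSp m F) := by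
  by_cases a1 : m = 3 ∧ Fintype.card F = 2
  · obtain ⟨rfl, a⟩ := a1
    obtain rfl : r = 2 := Pr.eq_of (k := 1) Nat.prime_two a
    refine of_card (H334.KW.Small.card_psp62 a) (by norm_num) ?_
    rintro (rfl | rfl | rfl | rfl) h <;> first
      | exact absurd rfl hpr
      | exact E.s62 F a
      | exact absurd h (by norm_num)
  exact of_cyc (S2092.result (F := F) rfl m hm h2 a1) fun h => ndvd1 (h.trans (Nat.gcd_dvd_right _ _))

theorem psu (E : Xc) (hpr : p ≠ r) {n q : ℕ} (hF : Fintype.card F = q ^ 2) (hn : 3 ≤ n) (h2 : ¬ (n = 3 ∧ q = 2))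
    (e : S ≃* PSU n F q) [Finite S] [IsSimpleGroup S] (hS : ¬ IsMulCommutative S) : CovX r p S := by
  by_cases a1 : n = 4 ∧ q = 2
  · obtain ⟨rfl, rfl⟩ := a1
    obtain rfl : r = 2 := Pr.eq_of (k := 2) Nat.prime_two hF
    obtain ⟨i⟩ := S0822.result (K := ZMod 3) hF rfl
    refine of_card ((Nat.card_congr e.toEquiv).trans (H334.KW.Small.card_psu42 hF)) (by norm_num) ?_
    rintro (rfl | rfl | rfl | rfl) h <;> first
      | exact absurd rfl hpr
      | exact (Df.row_lie 3 S hS (.inr (.inl ⟨ZMod 3, inferInstance, inferInstance, inferInstance, 2, le_rfl,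
          fun _ => le_rfl, ⟨e.trans i⟩⟩))).covX
      | exact absurd h (by norm_num)
  refine CovX.of_equiv e ?_
  by_cases a2 : n = 4 ∧ q = 3
  · obtain ⟨rfl, rfl⟩ := a2
    obtain rfl : r = 3 := Pr.eq_of (k := 2) Nat.prime_three hF
    have h := S0280.result hF 4 (by norm_num)
    refine of_card (N := 3265920) (by simp (decide := true) [Finset.prod_range_succ] at h; omega) (by norm_num) ?_
    rintro (rfl | rfl | rfl | rfl) h <;> first
      | exact absurd rfl hpr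
      | exact E.u43 F hF
      | exact absurd h (by norm_num)
  by_cases a3 : n = 6 ∧ q = 2
  · obtain ⟨rfl, rfl⟩ := a3
    obtain rfl : r = 2 := Pr.eq_of (k := 2) Nat.prime_two hF
    have h := S0280.result hF 6 (by norm_num)
    refine of_card (N := 9196830720) (by simp (decide := true) [Finset.prod_range_succ] at h; omega) (by norm_num) ?_
    rintro (rfl | rfl | rfl | rfl) h <;> first
      | exact absurd rfl hpr
      | exact E.u62 F hF
      | exact absurd h (by norm_num)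
  exact of_cyc (S2089.result n q hF hn h2 (by
    simp only [Set.mem_insert_iff, Set.mem_singleton_iff, Prod.mk.injEq]
    tauto)) fun h => ndvd2 hF (h.trans (Nat.gcd_dvd_right _ _))

theorem oodd (E : Xc) (hpr : p ≠ r) {m : ℕ} (hm : 3 ≤ m) (ho : Odd (Fintype.card F)) :
    CovX r p (POmega F (quadFormOdd m F)) := by
  by_cases a1 : m = 3 ∧ Fintype.card F = 3
  · obtain ⟨rfl, a⟩ := a1
    obtain rfl : r = 3 := Pr.eq_of (k := 1) Nat.prime_three a
    have h := S0292.result a (by decide) 3 le_rfl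
    refine of_card (N := 4585351680) (by simp [Finset.prod_range_succ] at h; omega) (by norm_num) ?_
    rintro (rfl | rfl | rfl | rfl) h <;> first
      | exact absurd rfl hpr
      | exact E.o73 F a
      | exact absurd h (by norm_num)
  refine of_cyc (S2094.result rfl ho m hm a1) fun h => ?_
  obtain rfl := (Nat.prime_dvd_prime_iff_eq hr.out Nat.prime_two).1 h
  exact (Nat.not_even_iff_odd.2 ho) (even_iff_two_dvd.2 Pr.dvd_card)

theorem oplus (E : Xc) (hpr : p ≠ r) {m : ℕ} (hm : 4 ≤ m) : CovX r p (POmega F (quadFormPlus m F)) := by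
  have h0 : ¬ r ∣ Fintype.card F ^ m - 1 := ndvd_sub Pr.dvd_card Fintype.one_lt_card (by omega)
  by_cases a1 : m = 4 ∧ Fintype.card F = 2
  · obtain ⟨rfl, a⟩ := a1
    obtain rfl : r = 2 := Pr.eq_of (k := 1) Nat.prime_two a
    have h := S0293.result a 4 le_rfl
    refine of_card (N := 174182400) (by simp [Finset.prod_range_succ] at h; omega) (by norm_num) ?_
    rintro (rfl | rfl | rfl | rfl) h <;> first
      | exact absurd rfl hpr
      | exact E.o82_3 F a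
      | exact E.o82_5 F a
      | exact absurd h (by norm_num)
  rcases Nat.even_or_odd m with h | h
  · refine of_mb (MB.of_mult (S2097.result rfl m hm h a1)) fun h1 => h0 ?_
    rw [Nat.card_congr Multiplicative.toAdd, Nat.card_prod, Nat.card_zmod, hr.out.dvd_mul, or_self] at h1
    exact h1.trans (Nat.gcd_dvd_right _ _)
  · exact of_cyc (S2096.result rfl m (by rcases h with ⟨k, rfl⟩; omega) h) fun h1 => h0 (h1.trans (Nat.gcd_dvd_right _ _))

theorem ominus {m : ℕ} (hm : 4 ≤ m) {a b : F} (hab : ∀ z₁ z₂ : F, z₁ ^ 2 + a * z₁ * z₂ + b * z₂ ^ 2 = 0 → z₁ = 0 ∧ z₂ = 0) :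
    CovX r p (POmega F (quadFormMinus (m - 1) F a b)) :=
  of_cyc (S2099.result rfl m hm a b hab) fun h =>
    ndvd_add (Pr.dvd_card (F := F)) (by omega) (h.trans (Nat.gcd_dvd_right _ _))

theorem g2 (E : Xc) (hpr : p ≠ r) (h3 : 3 ≤ Fintype.card F) : CovX r p (Lie.chevG2.group F) := by
  by_cases a : Fintype.card F = 3
  · obtain rfl : r = 3 := Pr.eq_of (k := 1) Nat.prime_three a
    refine of_card (S1059.result a) (by norm_num) ?_
    rintro (rfl | rfl | rfl | rfl) h <;> first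
      | exact absurd rfl hpr
      | exact E.g23 F a
      | exact absurd h (by norm_num)
  by_cases a : Fintype.card F = 4
  · obtain rfl : r = 2 := Pr.eq_of (k := 2) Nat.prime_two a
    refine of_card (S1059.result a) (by norm_num) ?_
    rintro (rfl | rfl | rfl | rfl) h <;> first
      | exact absurd rfl hpr
      | exact E.g24_3 F a
      | exact E.g24_5 F a
      | exact absurd h (by norm_num)
  exact of_cyc (S2100.result (by omega)) hr.out.not_dvd_one

theorem f4 (E : Xc) (hpr : p ≠ r) : CovX r p (Lie.chevF4.group F) := by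
  by_cases a : Fintype.card F = 2
  · obtain rfl : r = 2 := Pr.eq_of (k := 1) Nat.prime_two a
    refine of_card (S1062.result a) (by norm_num) ?_
    rintro (rfl | rfl | rfl | rfl) h <;> first
      | exact absurd rfl hpr
      | exact E.f42_3 F a
      | exact E.f42_5 F a
      | exact E.f42_7 F a
      | exact absurd h (by norm_num)
  have := Fintype.one_lt_card (α := F)
  exact of_cyc (S2103.result (by omega)) hr.out.not_dvd_one

theorem te6 (E : Xc) (hpr : p ≠ r) {q : ℕ} (hq : IsPrimePow q) (hF : Fintype.card F = q ^ 2) :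
    CovX r p (Lie.twistedE6 F q) := by
  by_cases a : q = 2
  · subst a
    obtain rfl : r = 2 := Pr.eq_of (k := 2) Nat.prime_two hF
    have h := S1066.result hq hF
    refine of_card (N := 76532479683774853939200) (by norm_num at h; omega) (by norm_num) ?_
    rintro (rfl | rfl | rfl | rfl) h <;> first
      | exact absurd rfl hpr
      | exact E.e62_3 F hF
      | exact E.e62_5 F hF
      | exact E.e62_7 F hF
      | exact absurd h (by norm_num)
  exact of_cyc (S2108.result hq hF a) fun h => ndvd2 hF (h.trans (Nat.gcd_dvd_right _ _))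

omit [CharP F r] hr in
theorem chr (h : (p : F) ≠ 0) : ∃ (r : ℕ) (_ : Fact r.Prime) (_ : CharP F r), p ≠ r := by
  obtain ⟨r, hr⟩ := CharP.exists F
  exact ⟨r, ⟨CharP.char_is_prime F r⟩, hr, fun e => h (e ▸ CharP.cast_eq_zero F r)⟩

end Gl

open Gl

theorem gen_of (h5 : BoxN5) : Gen := ⟨boxIdx, boxHz, boxN2, boxN3, h5⟩

/-- **all rows** -/
theorem all_of (h5 : BoxN5) (R : Sp) (E : Xc) (L : Lg) : All RowO where
  alt := Alt.row_alt
  lie := Df.row_lie
  psl := by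
    rintro p _ S _ _ _ hS ⟨F, _, _, n, h, h1, h2, ⟨e⟩⟩
    obtain ⟨r, _, _, hpr⟩ := chr h
    exact rowO_of ((L.psl r p hpr F n h1 h2).of_equiv e) (psl E hpr h1 h2 e hS)
  psp := by
    rintro p _ S _ _ _ hS ⟨F, _, _, n, h, h1, h2, ⟨e⟩⟩
    obtain ⟨r, _, _, hpr⟩ := chr h
    exact (rowO_of (L.psp r p hpr F n h1 h2) (psp E hpr h1 h2)).of_equiv e
  psu := by
    rintro p _ S _ _ _ hS ⟨F, _, _, n, q, h, h1, h2, h3, ⟨e⟩⟩
    obtain ⟨r, _, _, hpr⟩ := chr h
    exact rowO_of ((L.psu r p hpr F n q h1 h2 h3).of_equiv e) (psu E hpr h1 h2 h3 e hS)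
  oodd := by
    rintro p _ S _ _ _ hS ⟨F, _, _, n, h, h1, h2, ⟨e⟩⟩
    obtain ⟨r, _, _, hpr⟩ := chr h
    exact (rowO_of (L.oodd r p hpr F n h1 h2) (oodd E hpr h1 h2)).of_equiv e
  oplus := by
    rintro p _ S _ _ _ hS ⟨F, _, _, n, h, h1, ⟨e⟩⟩
    obtain ⟨r, _, _, hpr⟩ := chr h
    exact (rowO_of (L.oplus r p hpr F n h1) (oplus E hpr h1)).of_equiv e
  ominus := by
    rintro p _ S _ _ _ hS ⟨F, _, _, n, a, b, h, h1, h2, ⟨e⟩⟩
    obtain ⟨r, _, _, hpr⟩ := chr h
    exact (rowO_of (L.ominus r p hpr F n a b h1 h2) (ominus h1 h2)).of_equiv e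
  g2 := by
    rintro p _ S _ _ _ hS ⟨F, _, _, h, h1, ⟨e⟩⟩
    obtain ⟨r, _, _, hpr⟩ := chr h
    exact (rowO_of (L.g2 r p hpr F h1) (g2 E hpr h1)).of_equiv e
  f4 := by
    rintro p _ S _ _ _ hS ⟨F, _, _, h, ⟨e⟩⟩
    obtain ⟨r, _, _, hpr⟩ := chr h
    exact (rowO_of (L.f4 r p hpr F) (f4 E hpr)).of_equiv e
  e6 := by
    rintro p _ S _ _ _ hS ⟨F, _, _, h, ⟨e⟩⟩
    obtain ⟨r, _, _, hpr⟩ := chr h
    exact (rowO_of (L.e6 r p hpr F) (of_cyc (S2105.result rfl) fun h => ndvd1 (h.trans (Nat.gcd_dvd_right _ _)))).of_equiv e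
  e7 := by
    rintro p _ S _ _ _ hS ⟨F, _, _, h, ⟨e⟩⟩
    obtain ⟨r, _, _, hpr⟩ := chr h
    exact (rowO_of (L.e7 r p hpr F) (of_cyc (S2106.result rfl) fun h => ndvd1 (h.trans (Nat.gcd_dvd_right _ _)))).of_equiv e
  e8 := by
    rintro p _ S _ _ _ hS ⟨F, _, _, h, ⟨e⟩⟩
    obtain ⟨r, hr, _, hpr⟩ := chr h
    exact (rowO_of (L.e8 r p hpr F) (of_cyc S2107.result hr.out.not_dvd_one)).of_equiv e
  te6 := by
    rintro p _ S _ _ _ hS ⟨F, _, _, q, h, h1, h2, ⟨e⟩⟩
    obtain ⟨r, _, _, hpr⟩ := chr h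
    exact (rowO_of (L.te6 r p hpr F q h1 h2) (te6 E hpr h1 h2)).of_equiv e
  td4 := by
    rintro p _ S _ _ _ hS ⟨F, _, _, q, h, h1, h2, ⟨e⟩⟩
    obtain ⟨r, hr, _, hpr⟩ := chr h
    exact (rowO_of (L.td4 r p hpr F q h1 h2) (of_cyc (S2110.result h1 h2) hr.out.not_dvd_one)).of_equiv e
  sz := fun _ _ _ _ _ _ _ h => of_isCyclic (OddRank.SzTits.isCyclic_of_isPGroup h.2 h.1)
  ree := by
    rintro p hp S _ _ _ hS ⟨h3, h⟩
    by_cases h2 : p = 2
    · subst h2
      obtain ⟨F, _, _, m, h1, h2, ⟨e⟩⟩ := h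
      exact (rowO_of (L.ree F m h1 h2) (of_cyc (S2113.result h1 h2) (by norm_num))).of_equiv e
    · have := hp.out.two_le
      exact of_isCyclic (H315.RatB0.isCyclic_ree h (by omega))
  tf4 := by
    rintro p _ S _ _ _ hS ⟨h, F, _, _, m, h1, h2, ⟨e⟩⟩
    exact (rowO_of (L.tf4 p h F m h1 h2) (of_cyc (S2114.result h1 h2) (by norm_num))).of_equiv e
  tits := R.tits (gen_of h5)
  spor := R.spor (gen_of h5)

/-- **the quasisimple box from the open rows** -/
theorem qsAll_final (h5 : BoxN5) (R : Sp) (E : Xc) (L : Lg) : QSAll :=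
  qsAll_of Gen.boxCyc Gen.boxPri Gen.boxNil (all_of h5 R E L)

end Cfsg.Agent.OM
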