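import Cfsg.Agent.OM.Top
import Cfsg.Agent.OM.Lie.All
import Cfsg.Agent.OM.Cu.E78

/-!
# OM (S4894): the quasisimple box from the labels of `E₆`, `E₇` and the large Ree groups (helper8)
-/

set_option autoImplicit false

namespace Cfsg.Agent.OM

open Cfsg Cfsg.Agent.HZ.L

/-- **the quasisimple box** -/
theorem qsAll_fin2 (h6 : ∀ (p : ℕ) [Fact p.Prime], AllD p fun D => On.BoxE6 D)
    (h7 : ∀ (p : ℕ) [Fact p.Prime], AllD p fun D => On.BoxE7 D) (h2 : Gl.Tf4) : QSAll :=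
  qsAll_fin (fun p _ => Lie.boxQ_of5 (h6 p) (h7 p) Cu.boxX) h2

end Cfsg.Agent.OM
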